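import Mathlib
import Cfsg.Agent.H414.Good

/-!
# Odd primes dividing the outer part are adjacent to 2 (helper366, S3441)

* `exists_two_mul_of_dvd` : `S ⊲ X`, `S` `Good` (every nonabelian simple group of the list is, H414/GoodKnown), an odd
  prime `p` divides `|X : S|`: `X` has an element of order `2 p`.
-/

set_option autoImplicit false

namespace Cfsg.Agent.H366.CYC

universe u

open Cfsg.Agent.H414.Good

theorem exists_two_mul_of_dvd {X : Type u} [Group X] [Finite X] (S : Subgroup X) [S.Normal] (hS : Good ↥S) {p : ℕ}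
    (hp : p.Prime) (hp2 : p ≠ 2) (hd : p ∣ S.index) : ∃ x : X, orderOf x = 2 * p := by
  have : Fact p.Prime := ⟨hp⟩
  have hd' : p ∣ Nat.card (X ⧸ S) := hd
  obtain ⟨g, hg⟩ := exists_prime_orderOf_dvd_card' (G := X ⧸ S) p hd'
  let π := QuotientGroup.mk' S
  let Z : Subgroup (X ⧸ S) := Subgroup.zpowers g
  let H : Subgroup X := Z.comap π
  have hSH : S ≤ H := by
    intro s hs
    have h1 : π s = 1 := (QuotientGroup.eq_one_iff s).mpr hs
    rw [Subgroup.mem_comap, h1]
    exact one_mem Z
  have hidx : (S.subgroupOf H).index = p := by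
    have h1 : S.subgroupOf H = (π.subgroupComap Z).ker := by
      ext x
      rw [Subgroup.mem_subgroupOf, MonoidHom.mem_ker]
      constructor
      · intro hx
        exact Subtype.ext ((QuotientGroup.eq_one_iff (x : X)).mpr hx)
      · intro hx
        exact (QuotientGroup.eq_one_iff (x : X)).mp (congrArg Subtype.val hx)
    rw [h1, Subgroup.index_ker, MonoidHom.range_eq_top.mpr (π.subgroupComap_surjective_of_surjective Z
      (QuotientGroup.mk'_surjective S)), Subgroup.card_top, Nat.card_zpowers, hg]
  have hgood : Good ↥(S.subgroupOf H) := Good.congr (Subgroup.subgroupOfEquivOfLe hSH) hS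
  obtain ⟨y, hy⟩ := exists_two_mul (H := H) hp hp2 (S.subgroupOf H) hidx hgood
  exact ⟨y, by rw [Subgroup.orderOf_coe, hy]⟩

end Cfsg.Agent.H366.CYC
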